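import Groth.Agent.GenQuot5.Basic
import Groth.Agent.RelPC17.TruncFree
import Groth.Agent.KFlatLib.Perfect.LocFree
import Groth.Agent.QCoh.Support
import Groth.Agent.KFlatLib.Perfect.Tensor
import Groth.Agent.KZ.LFRes
import Groth.Agent.CurveCohLib.Euler
import Groth.Agent.KFlatLib.Scheme.SecPoint
import Groth.Agent.AlgStLib.Noetherian

/-!
# Flat extensions of quotients over a discrete valuation ring
-/

set_option linter.style.haveILetI false
set_option backward.isDefEq.respectTransparency false
set_option backward.isDefEq.respectTransparency.types false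
set_option maxHeartbeats 1000000

universe u

open CategoryTheory CategoryTheory.Limits AlgebraicGeometry TopologicalSpace Opposite

noncomputable section

namespace Groth.Agent.FlatExtDvr

open Groth.Agent

/-- Nonzero germs of the base act injectively on a direct image from over the open generic point. -/
theorem torsionFree_push {X Y Z : Scheme.{u}} [IsIntegral Y] (f : X ⟶ Y) (j : Z ⟶ X) (O : Y.Opens)
    (hO : ∀ y ∈ O, y = genericPoint Y) (hj : ∀ z, f (j z) ∈ O) (F : Z.Modules) (x : X)
    (t : Y.presheaf.stalk (f x)) (g : ((Scheme.Modules.pushforward j).obj F).presheaf.stalk x) (ht : t ≠ 0)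
    (h : (f.stalkMap x).hom t • g = 0) : g = 0 := by
  let P := (Scheme.Modules.pushforward j).obj F
  obtain ⟨V, hxV, a, rfl⟩ := Y.presheaf.germ_exist t
  obtain ⟨U₀, hxU₀, s₀, rfl⟩ := P.presheaf.germ_exist g
  let U : X.Opens := U₀ ⊓ f ⁻¹ᵁ V
  have hxU : x ∈ U := ⟨hxU₀, hxV⟩
  have hUV : U ≤ f ⁻¹ᵁ V := inf_le_right
  let s : Γ(P, U) := P.presheaf.map (homOfLE (inf_le_left : U ≤ U₀)).op s₀
  have hs : P.presheaf.germ U₀ x hxU₀ s₀ = P.presheaf.germ U x hxU s :=
    (P.presheaf.germ_res_apply (homOfLE (inf_le_left : U ≤ U₀)) x hxU s₀).symm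
  rw [hs] at h ⊢
  have h' : P.presheaf.germ U x hxU (f.appLE V U hUV a • s) = 0 := by
    rw [QCoh.germ_smul']
    refine Eq.trans ?_ h
    congr 1
    exact ((Scheme.Hom.germ_stalkMap_apply f V x hxV a).trans
      (X.presheaf.germ_res_apply (homOfLE hUV) x hxU _).symm).symm
  obtain ⟨W, hxW, i₁, i₂, hW⟩ := P.presheaf.germ_eq x hxU hxU (f.appLE V U hUV a • s) 0 (by rw [h', map_zero])
  rw [map_zero] at hW
  let W' : X.Opens := W ⊓ f ⁻¹ᵁ O
  let ρ : W' ⟶ U := homOfLE (inf_le_left.trans i₁.le)
  let ν : (V ⊓ O : Y.Opens) ⟶ V := homOfLE inf_le_left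
  have hu : IsUnit (Y.presheaf.map ν.op a) := by
    refine Y.toRingedSpace.isUnit_of_isUnit_germ (V ⊓ O) _ fun y hyVO => ?_
    have hy : y = genericPoint Y := hO _ hyVO.2
    have hne : Y.presheaf.germ (V ⊓ O) y hyVO (Y.presheaf.map ν.op a) ≠ 0 := fun h0 => by
      haveI : Nonempty V := ⟨⟨_, hxV⟩⟩
      refine ht ?_
      rw [Y.presheaf.germ_res_apply ν y hyVO a] at h0
      rw [germ_injective_of_isIntegral Y y hyVO.1 (h0.trans (map_zero _).symm), map_zero]
    have hfld : ∀ t : Y, t = genericPoint Y → IsField (Y.presheaf.stalk t) := by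
      rintro t rfl
      exact Field.toIsField Y.functionField
    letI := (hfld _ hy).toField
    exact IsUnit.mk0 _ hne
  have hle : W' ≤ f ⁻¹ᵁ (V ⊓ O) := fun w hw => ⟨hUV (i₁.le hw.1), hw.2⟩
  have hu' : IsUnit (f.appLE (V ⊓ O) W' hle (Y.presheaf.map ν.op a)) := hu.map _
  have e : f.appLE (V ⊓ O) W' hle (Y.presheaf.map ν.op a) = X.presheaf.map ρ.op (f.appLE V U hUV a) := by
    rw [← CommRingCat.comp_apply, ← CommRingCat.comp_apply, Scheme.Hom.map_appLE, Scheme.Hom.appLE_map]
  have hs' : P.presheaf.map ρ.op s = 0 := by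
    rw [← hu'.smul_eq_zero (x := P.presheaf.map ρ.op s), e, ← Scheme.Modules.map_smul]
    have h2 := congrArg (P.presheaf.map (homOfLE (inf_le_left : W' ≤ W)).op) hW
    rw [map_zero, ← ConcreteCategory.comp_apply, ← P.presheaf.map_comp] at h2
    exact h2
  have hsW : P.presheaf.map i₁.op s = 0 := by
    refine (injective_iff_map_eq_zero (P.presheaf.map (homOfLE (inf_le_left : W' ≤ W)).op).hom).1 ?_ _ ?_
    · haveI : IsIso (P.presheaf.map (homOfLE (inf_le_left : W' ≤ W)).op) :=
        KFlatLib.isIso_presheaf_map F.presheaf ((Opens.map j.base).map (homOfLE (inf_le_left : W' ≤ W))).op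
          (le_antisymm (fun z hz => ⟨hz, hj z⟩) fun z hz => hz.1)
      exact (ConcreteCategory.bijective_of_isIso (P.presheaf.map (homOfLE (inf_le_left : W' ≤ W)).op)).1
    · refine Eq.trans ?_ hs'
      rw [← ConcreteCategory.comp_apply, ← P.presheaf.map_comp]
      rfl
  rw [← P.presheaf.germ_res_apply i₁ x hxW s, hsW, map_zero]

theorem exists_flat_extension {R : Type u} [CommRing R] [IsDomain R] [IsDiscreteValuationRing R] {X : Scheme.{u}}
    (f : X ⟶ Spec (CommRingCat.of R)) [IsLocallyNoetherian X] (N : ℕ)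
    (F : (pullback f (Spec.map (CommRingCat.ofHom (algebraMap R (FractionRing R))))).Modules) (hF : Coh.IsQCoh F)
    (q : FlatMod.freeMod _ N ⟶ F) (hq : Epi q) :
    ∃ (F' : X.Modules) (q' : FlatMod.freeMod _ N ⟶ F'), Coh.IsCoh F' ∧ Epi q' ∧ FlatMod.IsFlatOver f F' ∧
      Nonempty ((Scheme.Modules.pullback
        (pullback.fst f (Spec.map (CommRingCat.ofHom (algebraMap R (FractionRing R)))))).obj F' ≅ F) := by
  haveI := hq
  obtain ⟨ϖ, hϖ⟩ := IsDiscreteValuationRing.exists_irreducible R
  haveI := RelPC17.TruncFree.isAway_fractionRing hϖ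
  let b := Spec.map (CommRingCat.ofHom (algebraMap R (FractionRing R)))
  haveI : IsOpenImmersion b := IsOpenImmersion.of_isLocalization ϖ
  let j := pullback.fst f b
  haveI : IsOpenImmersion j := inferInstance
  haveI : IsAffineHom j := MorphismProperty.pullback_fst f b inferInstance
  let adj := Scheme.Modules.pullbackPushforwardAdjunction j
  haveI : (Scheme.Modules.pullback j).Additive := Functor.additive_of_preserves_binary_products _
  let eA := KFlatLib.pullFreeIso j N
  let qq : FlatMod.freeMod X N ⟶ (Scheme.Modules.pushforward j).obj F := adj.homEquiv _ _ (eA.hom ≫ q)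
  let F' := Abelian.coimage qq
  let π := Abelian.coimage.π qq
  let ι := Abelian.factorThruCoimage qq
  have hfac : π ≫ ι = qq := Abelian.coimage.fac qq
  have hA : Coh.IsCoh (FlatMod.freeMod X N) := KZ.LFRes.flf_isCoh (KFlatLib.isFinLocFree_freeMod N)
  have hP : Coh.IsQCoh ((Scheme.Modules.pushforward j).obj F) := QCoh.isQCoh_pushforward j hF
  have hF' : Coh.IsCoh F' := QCoh.isCoh_cokernel (QCoh.isQCoh_kernel hA.1 hP qq) hA _
  refine ⟨F', π, hF', inferInstance, fun x => ?_, ?_⟩
  · refine GenQuot5.isFlatOverAt_of_torsionFree (fun y => ?_) f F' x fun t g ht htg => ?_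
    · haveI : IsPrincipalIdealRing (Localization.AtPrime y.asIdeal) :=
        ⟨fun I => by
          obtain ⟨a, ha⟩ := IsPrincipalIdealRing.principal (I.under (CommRingCat.of R))
          rw [← IsLocalization.map_comap y.asIdeal.primeCompl (Localization.AtPrime y.asIdeal) I]
          refine ⟨⟨algebraMap (CommRingCat.of R) _ a, ?_⟩⟩
          erw [ha, Ideal.map_span, Set.image_singleton]⟩
      haveI : IsPrincipalIdealRing ((Spec (CommRingCat.of R)).presheaf.stalk y) :=
        IsPrincipalIdealRing.of_surjective (StructureSheaf.stalkIso (CommRingCat.of R) y).toRingEquiv.toRingHom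
          (RingEquiv.surjective _)
      exact ⟨inferInstance, (Ring.krullDimLE_iff).mp inferInstance⟩
    let σ := (DerSch.stalkFunctor X x).map ι
    haveI : Mono σ := inferInstance
    refine (ModuleCat.mono_iff_injective σ).1 inferInstance ?_
    rw [map_zero]
    refine torsionFree_push f j b.opensRange (fun y hy => ?_) (fun z => ?_) F x t _ ht ?_
    · obtain ⟨z, rfl⟩ := hy
      refine Eq.trans ?_ (genericPoint_eq_bot_of_affine (CommRingCat.of R)).symm
      rw [show b z = ⟨⊥, Ideal.isPrime_bot⟩ from PrimeSpectrum.ext (by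
        show Ideal.comap (algebraMap R (FractionRing R)) z.asIdeal = ⊥
        rw [(Ideal.eq_bot_or_top z.asIdeal).resolve_right z.2.ne_top, ← RingHom.ker_eq_comap_bot]
        exact (RingHom.injective_iff_ker_eq_bot _).1 (IsFractionRing.injective R (FractionRing R)))]
      rfl
    · exact ⟨pullback.snd f b z, (congr($((pullback.condition (f := f) (g := b))) z)).symm⟩
    · rw [← map_zero σ.hom, ← htg]
      exact (map_smul σ.hom _ _).symm
  · let J := Scheme.Modules.pullback j
    let c := adj.counit.app F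
    let ff := (Scheme.Modules.restrictAdjunction j).fullyFaithfulROfIsIsoCounit
    haveI : (Scheme.Modules.pushforward j).Full := ff.full
    haveI : (Scheme.Modules.pushforward j).Faithful := ff.faithful
    haveI : IsIso adj.counit := inferInstance
    haveI : Mono (J.map ι) := inferInstance
    have hcomp : J.map π ≫ J.map ι ≫ c = eA.hom ≫ q := by
      rw [← Category.assoc, ← J.map_comp, hfac]
      exact (adj.homEquiv_counit _ _ qq).symm.trans (Equiv.symm_apply_apply _ _)
    haveI : Epi (J.map ι ≫ c) := epi_of_epi_fac hcomp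
    haveI : IsIso (J.map ι ≫ c) := isIso_of_mono_of_epi _
    exact ⟨asIso (J.map ι ≫ c)⟩

end Groth.Agent.FlatExtDvr
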